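import Cfsg.Agent.Lib.Helper12.TCG.WPres

/-!
A group presented on the letters `0`, `1`, `2`, the last two inverse to each other, is presented on two
generators by the same words (helper12).
-/

set_option autoImplicit false

namespace Cfsg.Agent.Lib.Helper12.PSU3S

open Cfsg.Agent.Lib.Helper12.TC Cfsg.Agent.Lib.Helper12.TCG

/-- the letters as elements of the free group on two generators -/
def tr (s : ℕ) : FreeGroup (Fin 2) :=
  if s = 0 then FreeGroup.of 0 else if s = 1 then FreeGroup.of 1
  else if s = 2 then (FreeGroup.of 1)⁻¹ else 1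

/-- the relators on two generators -/
def relF (baseL : List (List ℕ)) : Finset (FreeGroup (Fin 2)) := (baseL.map (wprod tr)).toFinset

theorem card_relF_le (baseL : List (List ℕ)) : (relF baseL).card ≤ baseL.length := by
  unfold relF
  exact (List.toFinset_card_le _).trans (by rw [List.length_map])

theorem mem_relF {baseL : List (List ℕ)} {b : List ℕ} (hb : b ∈ baseL) :
    wprod tr b ∈ (↑(relF baseL) : Set (FreeGroup (Fin 2))) := by
  show wprod tr b ∈ relF baseL
  unfold relF
  rw [List.mem_toFinset]
  exact List.mem_map_of_mem hb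

theorem wprod_congr {G : Type*} [Group G] (u u' : ℕ → G) (n : ℕ) (h : ∀ s < n, u s = u' s) :
    ∀ l : List ℕ, (∀ s ∈ l, s < n) → wprod u l = wprod u' l := by
  intro l
  induction l with
  | nil => intro _; rw [wprod_nil, wprod_nil]
  | cons s l ih =>
    intro hl
    rw [wprod_cons, wprod_cons, ih (fun t ht => hl t (List.mem_cons_of_mem _ ht)),
      h s (hl s List.mem_cons_self)]

/-- the presented group on three letters is the presented group on two generators -/
theorem wp3_equiv (baseL : List (List ℕ)) (hlet : lettersK 3 baseL = true)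
    (h12 : [1, 2] ∈ baseL) :
    Nonempty (WPres.Grp 3 baseL ≃*
      PresentedGroup (↑(relF baseL) : Set (FreeGroup (Fin 2)))) := by
  set R : Set (FreeGroup (Fin 2)) := ↑(relF baseL) with hR
  have hv2 : WPres.v 3 baseL 2 = (WPres.v 3 baseL 1)⁻¹ := by
    have h := WPres.hbase 3 baseL _ h12
    rw [wprod_cons, wprod_cons, wprod_nil, mul_one] at h
    exact (inv_eq_of_mul_eq_one_right h).symm
  -- forward
  obtain ⟨f, hf⟩ := WPres.hlift 3 baseL hlet (fun s => PresentedGroup.mk R (tr s)) (by
    intro b hb
    rw [WPres.wprod_map]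
    exact PresentedGroup.one_of_mem (mem_relF hb))
  -- backward
  let u : Fin 2 → WPres.Grp 3 baseL := ![WPres.v 3 baseL 0, WPres.v 3 baseL 1]
  have hlu : ∀ s < 3, FreeGroup.lift u (tr s) = WPres.v 3 baseL s := by
    intro s hs
    interval_cases s
    · show FreeGroup.lift u (FreeGroup.of 0) = _
      rw [FreeGroup.lift_apply_of]; rfl
    · show FreeGroup.lift u (FreeGroup.of 1) = _
      rw [FreeGroup.lift_apply_of]; rfl
    · show FreeGroup.lift u (FreeGroup.of 1)⁻¹ = _
      rw [map_inv, FreeGroup.lift_apply_of, hv2]; rfl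
  have hrel : ∀ r ∈ R, FreeGroup.lift u r = 1 := by
    intro r hr
    have hr' : r ∈ relF baseL := hr
    unfold relF at hr'
    rw [List.mem_toFinset, List.mem_map] at hr'
    obtain ⟨b, hb, rfl⟩ := hr'
    rw [← WPres.wprod_map (FreeGroup.lift u) tr b,
      wprod_congr _ (WPres.v 3 baseL) 3 hlu b (fun s hs => lettersK_lt hlet hb hs)]
    exact WPres.hbase 3 baseL b hb
  let g : PresentedGroup R →* WPres.Grp 3 baseL := PresentedGroup.toGroup hrel
  have hg0 : g (PresentedGroup.of 0) = WPres.v 3 baseL 0 := PresentedGroup.toGroup.of hrel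
  have hg1 : g (PresentedGroup.of 1) = WPres.v 3 baseL 1 := PresentedGroup.toGroup.of hrel
  have hgtr : ∀ s < 3, g (PresentedGroup.mk R (tr s)) = WPres.v 3 baseL s := by
    intro s hs
    exact hlu s hs
  have hgf : g.comp f = MonoidHom.id _ := by
    apply WPres.hom_ext 3 baseL
    intro x hx
    rw [MonoidHom.comp_apply, hf x hx, hgtr x hx, MonoidHom.id_apply]
  have hfg : f.comp g = MonoidHom.id _ := by
    apply PresentedGroup.ext
    intro i
    fin_cases i
    · show f (g (PresentedGroup.of 0)) = PresentedGroup.of 0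
      rw [hg0, hf 0 (by decide)]; rfl
    · show f (g (PresentedGroup.of 1)) = PresentedGroup.of 1
      rw [hg1, hf 1 (by decide)]; rfl
  exact ⟨MonoidHom.toMulEquiv f g hgf hfg⟩

end Cfsg.Agent.Lib.Helper12.PSU3S
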