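import Cfsg.Agent.Lib.Helper12.PSU3S.Mat
import Cfsg.Agent.Lib.Helper12.PSU3S.WP3
import Cfsg.Agent.S0279
import Cfsg.Agent.Lib.Helper25.SU3P.Main

/-!
A group presented on the letters `0`, `1`, `2` maps to the projective special unitary group of degree three when
three matrices satisfy the relators up to scalars; when the presented group is simple of the same order the map is
an isomorphism (helper12).
-/

set_option autoImplicit false

namespace Cfsg.Agent.Lib.Helper12.PSU3S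

open Cfsg.Agent.Lib.Helper12.TC Cfsg.Agent.Lib.Helper12.TCG

section

variable {F : Type*} [Field F] [Fintype F] {q d : ℕ} {r : F}

/-- the element of the special linear group -/
def slOf (hq : (q : F) = 0) (hq0 : 0 < q) (hr : r * r = (d : F)) (A : M3)
    (hA : mdet q d A = (1, 0)) : Matrix.SpecialLinearGroup (Fin 3) F :=
  ⟨toMat r A, by rw [det_toMat hq hq0 hr, hA, ev_one]⟩

theorem slOf_mem (hq : (q : F) = 0) (hq0 : 0 < q) (hr : r * r = (d : F)) (σ : F →+* F)
    (hσ : ∀ x, σ x = x ^ q) (hσr : σ r = -r) (A : M3) (hA : mdet q d A = (1, 0))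
    (hU : mmul q d (mtr A) (mconj q A) = mone) :
    slOf hq hq0 hr A hA ∈ Cfsg.SU 3 F q := by
  rw [Cfsg.Agent.S0279.mem_SU_iff' σ hσ]
  show (toMat r A).transpose * (toMat r A).map σ = 1
  rw [toMat_mtr, toMat_mconj hq hq0 σ hσr, ← toMat_mmul hq hr, hU, toMat_mone]

/-- an element of the special unitary group with a scalar matrix is central -/
theorem mem_center_of_scalar (z : ↥(Cfsg.SU 3 F q)) (c : F)
    (hz : (z.1.1 : Matrix (Fin 3) (Fin 3) F) = c • (1 : Matrix (Fin 3) (Fin 3) F)) :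
    z ∈ Subgroup.center ↥(Cfsg.SU 3 F q) := by
  rw [Subgroup.mem_center_iff]
  intro y
  apply Subtype.ext
  apply Subtype.ext
  show (y.1.1 : Matrix (Fin 3) (Fin 3) F) * z.1.1 = z.1.1 * y.1.1
  rw [hz, Matrix.mul_smul, Matrix.smul_mul, Matrix.mul_one, Matrix.one_mul]

/-- the homomorphism to the projective special unitary group -/
theorem exists_hom [CharP F q] (hq0 : 0 < q) (hr : r * r = (d : F)) (σ : F →+* F)
    (hσ : ∀ x, σ x = x ^ q) (hσr : σ r = -r) (L : ℕ → M3)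
    (hdet : ∀ s < 3, mdet q d (L s) = (1, 0))
    (hU : ∀ s < 3, mmul q d (mtr (L s)) (mconj q (L s)) = mone)
    (baseL : List (List ℕ)) (hlet : lettersK 3 baseL = true)
    (hrel : ∀ b ∈ baseL, isScal (wmat q d L b) = true)
    (hnc : ∃ i j : Fin 3, enorm q d (eadd q (entry (mmul q d (L 0) (L 1)) i j)
      (eneg q (entry (mmul q d (L 1) (L 0)) i j))) ≠ 0) :
    ∃ φ : WPres.Grp 3 baseL →* Cfsg.PSU 3 F q, φ (WPres.v 3 baseL 0) ≠ 1 := by
  have hq : (q : F) = 0 := CharP.cast_eq_zero F q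
  let g : ℕ → ↥(Cfsg.SU 3 F q) := fun s =>
    if h : s < 3 then ⟨slOf hq hq0 hr (L s) (hdet s h),
      slOf_mem hq hq0 hr σ hσ hσr (L s) (hdet s h) (hU s h)⟩ else 1
  have hg : ∀ s < 3, ((g s).1.1 : Matrix (Fin 3) (Fin 3) F) = toMat r (L s) := by
    intro s hs
    show ((if h : s < 3 then (⟨slOf hq hq0 hr (L s) (hdet s h),
      slOf_mem hq hq0 hr σ hσ hσr (L s) (hdet s h) (hU s h)⟩ : ↥(Cfsg.SU 3 F q)) else 1).1.1 :
        Matrix (Fin 3) (Fin 3) F) = _
    rw [dif_pos hs]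
    rfl
  have hw : ∀ l : List ℕ, (∀ s ∈ l, s < 3) →
      ((wprod g l).1.1 : Matrix (Fin 3) (Fin 3) F) = toMat r (wmat q d L l) := by
    intro l
    induction l with
    | nil =>
      intro _
      rw [wprod_nil]
      show (1 : Matrix (Fin 3) (Fin 3) F) = toMat r mone
      rw [toMat_mone]
    | cons s l ih =>
      intro hl
      rw [wprod_cons]
      show ((g s).1.1 : Matrix (Fin 3) (Fin 3) F) * (wprod g l).1.1 = toMat r (mmul q d (L s) (wmat q d L l))
      rw [hg s (hl s List.mem_cons_self), ih (fun t ht => hl t (List.mem_cons_of_mem _ ht)),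
        toMat_mmul hq hr]
  let π : ↥(Cfsg.SU 3 F q) →* Cfsg.PSU 3 F q := QuotientGroup.mk' _
  obtain ⟨φ, hφ⟩ := WPres.hlift 3 baseL hlet (fun s => π (g s)) (by
    intro b hb
    rw [WPres.wprod_map π g b]
    show ((wprod g b : ↥(Cfsg.SU 3 F q)) : Cfsg.PSU 3 F q) = 1
    rw [QuotientGroup.eq_one_iff]
    refine mem_center_of_scalar _ (ev r (wmat q d L b).a00) ?_
    rw [hw b (fun s hs => lettersK_lt hlet hb hs)]
    exact toMat_of_isScal _ (hrel b hb))
  refine ⟨φ, ?_⟩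
  rw [hφ 0 (by decide)]
  intro h1
  have h2 : g 0 ∈ Subgroup.center ↥(Cfsg.SU 3 F q) := (QuotientGroup.eq_one_iff _).mp h1
  rw [Subgroup.mem_center_iff] at h2
  have h3 := h2 (g 1)
  have h4 : ((g 1).1.1 : Matrix (Fin 3) (Fin 3) F) * (g 0).1.1 = (g 0).1.1 * (g 1).1.1 :=
    congrArg (fun z : ↥(Cfsg.SU 3 F q) => (z.1.1 : Matrix (Fin 3) (Fin 3) F)) h3
  rw [hg 0 (by decide), hg 1 (by decide), ← toMat_mmul hq hr, ← toMat_mmul hq hr] at h4
  exact toMat_ne (r := r) hq0 hr _ _ hnc h4.symm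

/-- the order of the projective special unitary group of degree three -/
theorem card_PSU3 (hF : Fintype.card F = q ^ 2) :
    Nat.card (Cfsg.PSU 3 F q) * Nat.gcd 3 (q + 1) = q ^ 3 * ((q ^ 2 - 1) * (q ^ 3 + 1)) := by
  rw [← Cfsg.Agent.S0279.result hF 3 le_rfl, ← Cfsg.Agent.Lib.Helper25.SU3P.card_SU3 hF]
  exact (Subgroup.card_eq_card_quotient_mul_card_subgroup _).symm

/-- a simple group of the right order which maps to the projective special unitary group is isomorphic to it -/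
theorem iso_of_simple {P : Type*} [Group P] [Finite P] (hs : IsSimpleGroup P)
    (φ : P →* Cfsg.PSU 3 F q) (x : P) (hx : φ x ≠ 1)
    (hc : Nat.card P = Nat.card (Cfsg.PSU 3 F q)) : Nonempty (P ≃* Cfsg.PSU 3 F q) := by
  have hinj : Function.Injective φ := by
    rw [← MonoidHom.ker_eq_bot_iff]
    rcases hs.eq_bot_or_eq_top_of_normal φ.ker inferInstance with h | h
    · exact h
    · exfalso
      apply hx
      have : x ∈ φ.ker := by rw [h]; trivial
      exact this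
  have hbij : Function.Bijective φ := (Nat.bijective_iff_injective_and_card φ).mpr ⟨hinj, hc⟩
  exact ⟨MulEquiv.ofBijective φ hbij⟩

/-- a square root of two in the field of `q^2` elements -/
theorem exists_sqrt_two [CharP F q] (hqp : q.Prime) (hq2 : q ≠ 2) (hF : Fintype.card F = q ^ 2)
    (k : ℕ) (hk : 2 ^ (q ^ 2 / 2) = 1 + q * k) : ∃ r : F, r * r = ((2 : ℕ) : F) := by
  have hq : (q : F) = 0 := CharP.cast_eq_zero F q
  have hchar : ringChar F ≠ 2 := by
    rw [ringChar.eq F q]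
    exact hq2
  have h2 : ((2 : ℕ) : F) ≠ 0 := by
    intro h
    have h3 := (CharP.cast_eq_zero_iff F q 2).mp h
    rcases (Nat.dvd_prime Nat.prime_two).mp h3 with h4 | h4
    · exact hqp.one_lt.ne' h4
    · exact hq2 h4
  have h5 : IsSquare ((2 : ℕ) : F) := by
    rw [FiniteField.isSquare_iff hchar h2, hF, ← Nat.cast_pow, hk, Nat.cast_add, Nat.cast_mul, hq,
      zero_mul, add_zero, Nat.cast_one]
  obtain ⟨r, hr⟩ := h5
  exact ⟨r, hr.symm⟩

/-- the automorphism of order two maps the square root to its negative -/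
theorem frob_sqrt (h m : ℕ) (hqh : q = 2 * h + 1) (hm : 2 ^ h + 1 = q * m) (hq : (q : F) = 0)
    (hr : r * r = ((2 : ℕ) : F)) : r ^ q = -r := by
  have h1 : ((2 ^ h : ℕ) : F) = -1 := by
    have h2 := congrArg (Nat.cast : ℕ → F) hm
    rw [Nat.cast_add, Nat.cast_mul, hq, zero_mul, Nat.cast_one] at h2
    exact eq_neg_of_add_eq_zero_left h2
  rw [hqh, pow_succ, pow_mul, pow_two, hr, ← Nat.cast_pow, h1]
  ring

/-- the presentation on two generators from the data -/
theorem pres_of_data (hqp : q.Prime) (hq2 : q ≠ 2) (hF : Fintype.card F = q ^ 2)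
    (k h m : ℕ) (hk : 2 ^ (q ^ 2 / 2) = 1 + q * k) (hqh : q = 2 * h + 1) (hm : 2 ^ h + 1 = q * m)
    (L : ℕ → M3) (hdet : ∀ s < 3, mdet q 2 (L s) = (1, 0))
    (hU : ∀ s < 3, mmul q 2 (mtr (L s)) (mconj q (L s)) = mone)
    (baseL : List (List ℕ)) (hlet : lettersK 3 baseL = true) (h12 : [1, 2] ∈ baseL)
    (hrel : ∀ b ∈ baseL, isScal (wmat q 2 L b) = true)
    (hnc : ∃ i j : Fin 3, enorm q 2 (eadd q (entry (mmul q 2 (L 0) (L 1)) i j)
      (eneg q (entry (mmul q 2 (L 1) (L 0)) i j))) ≠ 0)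
    (hlen : baseL.length ≤ 80) [Finite (WPres.Grp 3 baseL)]
    (hs : IsSimpleGroup (WPres.Grp 3 baseL)) (ord : ℕ) (hord : Nat.card (WPres.Grp 3 baseL) = ord)
    (hordq : ord * Nat.gcd 3 (q + 1) = q ^ 3 * ((q ^ 2 - 1) * (q ^ 3 + 1))) :
    ∃ rels : Finset (FreeGroup (Fin 2)), rels.card ≤ 80 ∧
      Nonempty (PresentedGroup (↑rels : Set (FreeGroup (Fin 2))) ≃* Cfsg.PSU 3 F q) := by
  have hcp : CharP F q :=
    Cfsg.Agent.Lib.Helper25.SU3P.charP_of_card hqp (by norm_num) hF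
  have hq : (q : F) = 0 := CharP.cast_eq_zero F q
  obtain ⟨r, hr⟩ := exists_sqrt_two hqp hq2 hF k hk
  obtain ⟨σ, hσ⟩ := Cfsg.Agent.Lib.Lead.exists_frob hF
  have hσr : σ r = -r := by rw [hσ]; exact frob_sqrt h m hqh hm hq hr
  obtain ⟨φ, hφ⟩ := exists_hom hqp.pos hr σ hσ hσr L hdet hU baseL hlet hrel hnc
  have hcard : Nat.card (WPres.Grp 3 baseL) = Nat.card (Cfsg.PSU 3 F q) := by
    have h1 := card_PSU3 (F := F) hF
    rw [← hordq, ← hord] at h1
    exact (Nat.eq_of_mul_eq_mul_right (Nat.gcd_pos_of_pos_left _ (by norm_num)) h1).symm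
  obtain ⟨e⟩ := iso_of_simple hs φ _ hφ hcard
  obtain ⟨e'⟩ := wp3_equiv baseL hlet h12
  exact ⟨relF baseL, (card_relF_le baseL).trans hlen, ⟨e'.symm.trans e⟩⟩

end

end Cfsg.Agent.Lib.Helper12.PSU3S
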