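import Mathlib

/-!
Matrices of degree three over the field of `q^2` elements, `q` a prime, written as pairs `x + y s` with `s * s = d`:
an arithmetic on natural numbers which the kernel can evaluate, and its interpretation in a field (helper12).
-/

set_option autoImplicit false

namespace Cfsg.Agent.Lib.Helper12.PSU3S

/-- the element `x + y s` -/
abbrev El := ℕ × ℕ

def eadd (q : ℕ) (a b : El) : El := ((a.1 + b.1) % q, (a.2 + b.2) % q)

def emul (q d : ℕ) (a b : El) : El :=
  ((a.1 * b.1 + d * (a.2 * b.2)) % q, (a.1 * b.2 + a.2 * b.1) % q)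

def eneg (q : ℕ) (a : El) : El := ((q - a.1 % q) % q, (q - a.2 % q) % q)

def econj (q : ℕ) (a : El) : El := (a.1 % q, (q - a.2 % q) % q)

/-- the norm `x^2 - d y^2` -/
def enorm (q d : ℕ) (a : El) : ℕ := (a.1 * a.1 + (q - d % q) * (a.2 * a.2)) % q

/-- a matrix of degree three -/
structure M3 where
  a00 : El
  a01 : El
  a02 : El
  a10 : El
  a11 : El
  a12 : El
  a20 : El
  a21 : El
  a22 : El
deriving DecidableEq

def entry (A : M3) (i j : Fin 3) : El :=
  match i, j with
  | 0, 0 => A.a00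
  | 0, 1 => A.a01
  | 0, 2 => A.a02
  | 1, 0 => A.a10
  | 1, 1 => A.a11
  | 1, 2 => A.a12
  | 2, 0 => A.a20
  | 2, 1 => A.a21
  | 2, 2 => A.a22

def mone : M3 := ⟨(1, 0), (0, 0), (0, 0), (0, 0), (1, 0), (0, 0), (0, 0), (0, 0), (1, 0)⟩

def dot3 (q d : ℕ) (a b c a' b' c' : El) : El :=
  eadd q (eadd q (emul q d a a') (emul q d b b')) (emul q d c c')

def mmul (q d : ℕ) (A B : M3) : M3 where
  a00 := dot3 q d A.a00 A.a01 A.a02 B.a00 B.a10 B.a20
  a01 := dot3 q d A.a00 A.a01 A.a02 B.a01 B.a11 B.a21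
  a02 := dot3 q d A.a00 A.a01 A.a02 B.a02 B.a12 B.a22
  a10 := dot3 q d A.a10 A.a11 A.a12 B.a00 B.a10 B.a20
  a11 := dot3 q d A.a10 A.a11 A.a12 B.a01 B.a11 B.a21
  a12 := dot3 q d A.a10 A.a11 A.a12 B.a02 B.a12 B.a22
  a20 := dot3 q d A.a20 A.a21 A.a22 B.a00 B.a10 B.a20
  a21 := dot3 q d A.a20 A.a21 A.a22 B.a01 B.a11 B.a21
  a22 := dot3 q d A.a20 A.a21 A.a22 B.a02 B.a12 B.a22

def mtr (A : M3) : M3 := ⟨A.a00, A.a10, A.a20, A.a01, A.a11, A.a21, A.a02, A.a12, A.a22⟩

def mconj (q : ℕ) (A : M3) : M3 :=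
  ⟨econj q A.a00, econj q A.a01, econj q A.a02, econj q A.a10, econj q A.a11, econj q A.a12,
    econj q A.a20, econj q A.a21, econj q A.a22⟩

/-- the determinant -/
def mdet (q d : ℕ) (A : M3) : El :=
  eadd q (eadd q (emul q d A.a00 (eadd q (emul q d A.a11 A.a22) (eneg q (emul q d A.a12 A.a21))))
    (eneg q (emul q d A.a01 (eadd q (emul q d A.a10 A.a22) (eneg q (emul q d A.a12 A.a20))))))
    (emul q d A.a02 (eadd q (emul q d A.a10 A.a21) (eneg q (emul q d A.a11 A.a20))))

/-- the value of a word in matrices -/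
def wmat (q d : ℕ) (L : ℕ → M3) : List ℕ → M3
  | [] => mone
  | s :: w => mmul q d (L s) (wmat q d L w)

/-- a scalar matrix -/
def isScal (A : M3) : Bool :=
  decide (A.a01 = (0, 0) ∧ A.a02 = (0, 0) ∧ A.a10 = (0, 0) ∧ A.a12 = (0, 0) ∧ A.a20 = (0, 0) ∧
    A.a21 = (0, 0) ∧ A.a11 = A.a00 ∧ A.a22 = A.a00)

section Interp

variable {F : Type*} [Field F] (r : F)

/-- the value of `x + y s` in the field -/
def ev (a : El) : F := (a.1 : F) + (a.2 : F) * r

/-- the matrix over the field -/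
def toMat (A : M3) : Matrix (Fin 3) (Fin 3) F := Matrix.of fun i j => ev r (entry A i j)

variable {r} {q d : ℕ}

theorem cast_mod (hq : (q : F) = 0) (x : ℕ) : ((x % q : ℕ) : F) = (x : F) := by
  conv_rhs => rw [← Nat.mod_add_div x q]
  rw [Nat.cast_add, Nat.cast_mul, hq, zero_mul, add_zero]

theorem cast_sub_mod (hq : (q : F) = 0) (hq0 : 0 < q) (x : ℕ) :
    (((q - x % q) % q : ℕ) : F) = -(x : F) := by
  rw [cast_mod hq, Nat.cast_sub (Nat.mod_lt x hq0).le, hq, cast_mod hq, zero_sub]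

theorem ev_eadd (hq : (q : F) = 0) (a b : El) : ev r (eadd q a b) = ev r a + ev r b := by
  unfold ev eadd
  simp only [cast_mod hq, Nat.cast_add]
  ring

theorem ev_emul (hq : (q : F) = 0) (hr : r * r = (d : F)) (a b : El) :
    ev r (emul q d a b) = ev r a * ev r b := by
  unfold ev emul
  simp only [cast_mod hq, Nat.cast_add, Nat.cast_mul]
  rw [← hr]
  ring

theorem ev_eneg (hq : (q : F) = 0) (hq0 : 0 < q) (a : El) : ev r (eneg q a) = -ev r a := by
  unfold ev eneg
  simp only [cast_sub_mod hq hq0]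
  ring

theorem ev_econj (hq : (q : F) = 0) (hq0 : 0 < q) (a : El) :
    ev r (econj q a) = (a.1 : F) - (a.2 : F) * r := by
  unfold ev econj
  simp only [cast_sub_mod hq hq0, cast_mod hq]
  ring

theorem ev_map (hq : (q : F) = 0) (hq0 : 0 < q) (σ : F →+* F) (hσ : σ r = -r) (a : El) :
    σ (ev r a) = ev r (econj q a) := by
  rw [ev_econj hq hq0]
  unfold ev
  rw [map_add, map_mul, map_natCast, map_natCast, hσ]
  ring

theorem ev_dot3 (hq : (q : F) = 0) (hr : r * r = (d : F)) (a b c a' b' c' : El) :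
    ev r (dot3 q d a b c a' b' c') = ev r a * ev r a' + ev r b * ev r b' + ev r c * ev r c' := by
  unfold dot3
  rw [ev_eadd hq, ev_eadd hq, ev_emul hq hr, ev_emul hq hr, ev_emul hq hr]

theorem ev_one : ev r ((1, 0) : El) = 1 := by
  unfold ev
  simp

theorem ev_zero : ev r ((0, 0) : El) = 0 := by
  unfold ev
  simp

theorem toMat_mmul (hq : (q : F) = 0) (hr : r * r = (d : F)) (A B : M3) :
    toMat r (mmul q d A B) = toMat r A * toMat r B := by
  ext i j
  rw [Matrix.mul_apply, Fin.sum_univ_three]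
  fin_cases i <;> fin_cases j <;>
    simp only [toMat, Matrix.of_apply, entry, mmul, ev_dot3 hq hr, Fin.zero_eta, Fin.mk_one,
      Fin.reduceFinMk]

theorem toMat_mone : toMat r mone = 1 := by
  ext i j
  fin_cases i <;> fin_cases j <;>
    simp [toMat, entry, mone, ev_one, ev_zero]

theorem toMat_mtr (A : M3) : (toMat r A).transpose = toMat r (mtr A) := by
  ext i j
  fin_cases i <;> fin_cases j <;> rfl

theorem toMat_mconj (hq : (q : F) = 0) (hq0 : 0 < q) (σ : F →+* F) (hσ : σ r = -r) (A : M3) :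
    (toMat r A).map σ = toMat r (mconj q A) := by
  ext i j
  fin_cases i <;> fin_cases j <;>
    simp only [toMat, Matrix.map_apply, Matrix.of_apply, entry, mconj, ev_map hq hq0 σ hσ,
      Fin.zero_eta, Fin.mk_one, Fin.reduceFinMk]

theorem det_toMat (hq : (q : F) = 0) (hq0 : 0 < q) (hr : r * r = (d : F)) (A : M3) :
    (toMat r A).det = ev r (mdet q d A) := by
  rw [Matrix.det_fin_three]
  unfold mdet
  simp only [ev_eadd hq, ev_emul hq hr, ev_eneg hq hq0, toMat, Matrix.of_apply, entry]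
  ring

theorem toMat_wmat (hq : (q : F) = 0) (hr : r * r = (d : F)) (L : ℕ → M3) (w : List ℕ) :
    toMat r (wmat q d L w) = (w.map (fun s => toMat r (L s))).prod := by
  induction w with
  | nil => rw [List.map_nil, List.prod_nil]; exact toMat_mone
  | cons s w ih =>
    rw [List.map_cons, List.prod_cons, ← ih]
    exact toMat_mmul hq hr _ _

theorem toMat_of_isScal (A : M3) (h : isScal A = true) :
    toMat r A = ev r A.a00 • (1 : Matrix (Fin 3) (Fin 3) F) := by
  unfold isScal at h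
  rw [decide_eq_true_eq] at h
  obtain ⟨h01, h02, h10, h12, h20, h21, h11, h22⟩ := h
  ext i j
  fin_cases i <;> fin_cases j <;>
    simp [toMat, entry, h01, h02, h10, h12, h20, h21, h11, h22, ev_zero]

/-- a pair with a norm which is not zero modulo `q` has a value which is not zero -/
theorem ev_ne_zero [CharP F q] (hq0 : 0 < q) (hr : r * r = (d : F)) (a : El)
    (h : enorm q d a ≠ 0) : ev r a ≠ 0 := by
  have hq : (q : F) = 0 := CharP.cast_eq_zero F q
  intro h0
  have h1 : ev r a * ((a.1 : F) - (a.2 : F) * r) = ((enorm q d a : ℕ) : F) := by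
    unfold enorm
    rw [cast_mod hq, Nat.cast_add, Nat.cast_mul, Nat.cast_mul, Nat.cast_mul,
      Nat.cast_sub (Nat.mod_lt d hq0).le, hq, cast_mod hq, ← hr]
    unfold ev
    ring
  rw [h0, zero_mul] at h1
  have h2 := (CharP.cast_eq_zero_iff F q (enorm q d a)).mp h1.symm
  have h3 : enorm q d a < q := Nat.mod_lt _ hq0
  exact h (Nat.eq_zero_of_dvd_of_lt h2 h3)

/-- two matrices with entries of which the difference has a norm which is not zero are different -/
theorem toMat_ne [CharP F q] (hq0 : 0 < q) (hr : r * r = (d : F)) (A B : M3)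
    (h : ∃ i j : Fin 3, enorm q d (eadd q (entry A i j) (eneg q (entry B i j))) ≠ 0) :
    toMat r A ≠ toMat r B := by
  have hq : (q : F) = 0 := CharP.cast_eq_zero F q
  obtain ⟨i, j, hij⟩ := h
  intro hAB
  have h1 := ev_ne_zero (r := r) hq0 hr _ hij
  rw [ev_eadd hq, ev_eneg hq hq0] at h1
  have h2 : toMat r A i j = toMat r B i j := by rw [hAB]
  simp only [toMat, Matrix.of_apply] at h2
  rw [h2, add_neg_cancel] at h1
  exact h1 rfl

end Interp

end Cfsg.Agent.Lib.Helper12.PSU3S
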