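import Cfsg.Agent.Lib.Helper12.PSU3S.Hom
import Cfsg.Agent.Lib.Helper12.Ord.U35Simple

/-!
The projective special unitary group of degree three over the field of `5^2` elements is presented on two generators
by the relators of `U35Pres` (generated, helper12).
-/

set_option autoImplicit false
set_option maxRecDepth 100000

namespace Cfsg.Agent.Lib.Helper12.PSU3S.U35

open Cfsg.Agent.Lib.Helper12.TC Cfsg.Agent.Lib.Helper12.TCG Cfsg.Agent.Lib.Helper12.PSU3S

/-- the matrix of the first generator -/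
def LA : M3 := ⟨(0, 0), (0, 0), (3, 3), (0, 0), (3, 3), (0, 0), (3, 3), (0, 0), (0, 0)⟩

/-- the matrix of the second generator -/
def LB : M3 := ⟨(2, 2), (2, 2), (2, 0), (4, 2), (0, 2), (4, 0), (3, 1), (0, 4), (2, 3)⟩

/-- the matrix of the inverse of the second generator -/
def LBi : M3 := ⟨(2, 3), (4, 3), (3, 4), (2, 3), (0, 3), (0, 1), (2, 0), (4, 0), (2, 2)⟩

/-- the matrices of the letters -/
def L (s : ℕ) : M3 := if s = 0 then LA else if s = 1 then LB else LBi

theorem hdet : ∀ s < 3, mdet 5 2 (L s) = (1, 0) := by decide +kernel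

theorem hU : ∀ s < 3, mmul 5 2 (mtr (L s)) (mconj 5 (L s)) = mone := by decide +kernel

theorem hrel : ∀ b ∈ U35Pres.baseL, isScal (wmat 5 2 L b) = true := by decide +kernel

theorem hnc : ∃ i j : Fin 3, enorm 5 2 (eadd 5 (entry (mmul 5 2 (L 0) (L 1)) i j)
    (eneg 5 (entry (mmul 5 2 (L 1) (L 0)) i j))) ≠ 0 := by decide +kernel

/-- the presentation on two generators -/
theorem main {F : Type*} [Field F] [Fintype F] (hF : Fintype.card F = 5 ^ 2) :
    ∃ rels : Finset (FreeGroup (Fin 2)), rels.card ≤ 80 ∧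
      Nonempty (PresentedGroup (↑rels : Set (FreeGroup (Fin 2))) ≃* Cfsg.PSU 3 F 5) :=
  pres_of_data (by norm_num) (by norm_num) hF 819 2 1 (by norm_num) (by norm_num) (by norm_num)
    L hdet hU U35Pres.baseL U35Pres.hlet (by decide) hrel hnc (by decide)
    Cfsg.Agent.Lib.Helper12.Ord.U35Simple.isSimpleGroup 126000
    Cfsg.Agent.Lib.Helper12.Ord.U35Simple.card_eq (by norm_num)

end Cfsg.Agent.Lib.Helper12.PSU3S.U35
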